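import Cfsg.Agent.H942.L7.Iface

/-!
# The group elements and relations for `RepH` (S5920)
-/

set_option autoImplicit false

namespace Cfsg.Agent.H296.L7

open Cfsg.Agent.H942.L7

def N0 : ↥P336 := ⟨nn, Subgroup.subset_closure (by simp)⟩
def G0 : ↥P336 := ⟨g6, Subgroup.subset_closure (by simp)⟩
def W0 : ↥P336 := ⟨ww, Subgroup.subset_closure (by simp)⟩
def H0 : ↥P336 := G0 ^ 2
def R0 : ↥P336 := G0 ^ 3

theorem coe_N0 : (N0 : Equiv.Perm (Fin 8)) = nn := rfl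
theorem coe_W0 : (W0 : Equiv.Perm (Fin 8)) = ww := rfl
theorem coe_H0 : (H0 : Equiv.Perm (Fin 8)) = g6 ^ 2 := rfl
theorem coe_R0 : (R0 : Equiv.Perm (Fin 8)) = g6 ^ 3 := rfl

theorem N7 : N0 ^ 7 = 1 := Subtype.ext (by decide)
theorem HHH : H0 * (H0 * H0) = 1 := Subtype.ext (by decide)
theorem WW : W0 * W0 = 1 := Subtype.ext (by decide)
theorem RR : R0 * R0 = 1 := Subtype.ext (by decide)
theorem HN : H0 * N0 = N0 ^ 2 * H0 := Subtype.ext (by decide)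
theorem WH : W0 * H0 = H0 * (H0 * W0) := Subtype.ext (by decide)
theorem RN : R0 * N0 = N0 ^ 6 * R0 := Subtype.ext (by decide)
theorem RH : R0 * H0 = H0 * R0 := Subtype.ext (by decide)
theorem RW : R0 * W0 = W0 * R0 := Subtype.ext (by decide)

theorem w1 : W0 * (N0 ^ 1 * W0) = N0 ^ 6 * (W0 * N0 ^ 6) := Subtype.ext (by decide)
theorem w2 : W0 * (N0 ^ 2 * W0) = N0 ^ 3 * (H0 * (W0 * N0 ^ 3)) := Subtype.ext (by decide)
theorem w3 : W0 * (N0 ^ 3 * W0) = N0 ^ 2 * (H0 * (H0 * (W0 * N0 ^ 2))) := Subtype.ext (by decide)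
theorem w4 : W0 * (N0 ^ 4 * W0) = N0 ^ 5 * (H0 * (H0 * (W0 * N0 ^ 5))) := Subtype.ext (by decide)
theorem w5 : W0 * (N0 ^ 5 * W0) = N0 ^ 4 * (H0 * (W0 * N0 ^ 4)) := Subtype.ext (by decide)
theorem w6 : W0 * (N0 ^ 6 * W0) = N0 ^ 1 * (W0 * N0 ^ 1) := Subtype.ext (by decide)

/-! ### the elements of the dihedral groups -/

def Z1 : ↥P336 := N0 ^ 2 * (H0 * (W0 * N0 ^ 5))
def Z2 : ↥P336 := N0 * (H0 * (H0 * (W0 * N0 ^ 6)))
def Z3 : ↥P336 := N0 ^ 4 * (W0 * N0 ^ 3)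
def T0 : ↥P336 := N0 ^ 5 * (W0 * N0 ^ 2)
def T1 : ↥P336 := N0 ^ 6 * (W0 * N0 ^ 4)
def T2 : ↥P336 := H0 * W0
def T3 : ↥P336 := N0 ^ 3 * (W0 * N0)
def A1 : ↥P336 := N0 ^ 3 * (W0 * N0 ^ 4)
def A2 : ↥P336 := N0 ^ 6 * (H0 * (H0 * (W0 * N0)))
def A3 : ↥P336 := N0 ^ 5 * (H0 * (W0 * N0 ^ 2))
def TA : ↥P336 := N0 * (H0 * (W0 * N0 ^ 6))

theorem coe_Z1 : (Z1 : Equiv.Perm (Fin 8)) = zb := by decide
theorem coe_Z2 : (Z2 : Equiv.Perm (Fin 8)) = zb' := by decide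
theorem coe_Z3 : (Z3 : Equiv.Perm (Fin 8)) = zb * zb' := by decide
theorem coe_T0 : (T0 : Equiv.Perm (Fin 8)) = tb := by decide
theorem coe_T1 : (T1 : Equiv.Perm (Fin 8)) = zb * tb := by decide
theorem coe_T2 : (T2 : Equiv.Perm (Fin 8)) = zb' * tb := by decide
theorem coe_T3 : (T3 : Equiv.Perm (Fin 8)) = zb * zb' * tb := by decide
theorem coe_A1 : (A1 : Equiv.Perm (Fin 8)) = za := by decide
theorem coe_A2 : (A2 : Equiv.Perm (Fin 8)) = za' := by decide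
theorem coe_A3 : (A3 : Equiv.Perm (Fin 8)) = za * za' := by decide
theorem coe_TA : (TA : Equiv.Perm (Fin 8)) = ta := by decide

theorem Z1Z1 : Z1 * Z1 = 1 := Subtype.ext (by decide)
theorem Z1Z2 : Z1 * Z2 = Z3 := Subtype.ext (by decide)
theorem Z1Z3 : Z1 * Z3 = Z2 := Subtype.ext (by decide)
theorem Z2Z1 : Z2 * Z1 = Z3 := Subtype.ext (by decide)
theorem Z2Z2 : Z2 * Z2 = 1 := Subtype.ext (by decide)
theorem Z2Z3 : Z2 * Z3 = Z1 := Subtype.ext (by decide)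
theorem Z1T0 : Z1 * T0 = T1 := Subtype.ext (by decide)
theorem Z1T1 : Z1 * T1 = T0 := Subtype.ext (by decide)
theorem Z1T2 : Z1 * T2 = T3 := Subtype.ext (by decide)
theorem Z1T3 : Z1 * T3 = T2 := Subtype.ext (by decide)
theorem Z2T0 : Z2 * T0 = T2 := Subtype.ext (by decide)
theorem Z2T1 : Z2 * T1 = T3 := Subtype.ext (by decide)
theorem Z2T2 : Z2 * T2 = T0 := Subtype.ext (by decide)
theorem Z2T3 : Z2 * T3 = T1 := Subtype.ext (by decide)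
theorem T0Z1 : T0 * Z1 = T3 := Subtype.ext (by decide)
theorem T0Z2 : T0 * Z2 = T2 := Subtype.ext (by decide)
theorem T0Z3 : T0 * Z3 = T1 := Subtype.ext (by decide)
theorem T0T0 : T0 * T0 = 1 := Subtype.ext (by decide)
theorem T0T1 : T0 * T1 = Z3 := Subtype.ext (by decide)
theorem T0T2 : T0 * T2 = Z2 := Subtype.ext (by decide)
theorem T0T3 : T0 * T3 = Z1 := Subtype.ext (by decide)
theorem A1A1 : A1 * A1 = 1 := Subtype.ext (by decide)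
theorem A1A2 : A1 * A2 = A3 := Subtype.ext (by decide)
theorem A1A3 : A1 * A3 = A2 := Subtype.ext (by decide)
theorem A2A1 : A2 * A1 = A3 := Subtype.ext (by decide)
theorem A2A2 : A2 * A2 = 1 := Subtype.ext (by decide)
theorem A2A3 : A2 * A3 = A1 := Subtype.ext (by decide)
theorem TATA : TA * TA = 1 := Subtype.ext (by decide)
theorem TAA1 : TA * A1 = A1 * TA := Subtype.ext (by decide)
theorem TAA2 : TA * A2 = A3 * TA := Subtype.ext (by decide)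
theorem TAA3 : TA * A3 = A2 * TA := Subtype.ext (by decide)
theorem HA1 : H0 * A1 = A2 * H0 := Subtype.ext (by decide)
theorem HA2 : H0 * A2 = A3 * H0 := Subtype.ext (by decide)
theorem HA3 : H0 * A3 = A1 * H0 := Subtype.ext (by decide)
theorem TAH : TA * H0 = A2 * (H0 * (H0 * TA)) := Subtype.ext (by decide)
theorem Z1N : Z1 * N0 = N0 * TA := Subtype.ext (by decide)
theorem Z1N4 : Z1 * N0 ^ 4 = N0 ^ 4 * A3 := Subtype.ext (by decide)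
theorem Z2N : Z2 * N0 = N0 * (A1 * TA) := Subtype.ext (by decide)
theorem Z2N4 : Z2 * N0 ^ 4 = N0 ^ 4 * (A1 * (H0 * TA)) := Subtype.ext (by decide)
theorem T0N : T0 * N0 = N0 ^ 4 * (A2 * (H0 * (H0 * TA))) := Subtype.ext (by decide)
theorem T0N4 : T0 * N0 ^ 4 = N0 * (H0 * (H0 * TA)) := Subtype.ext (by decide)
theorem v0 : W0 * N0 ^ 0 = N0 ^ 0 * (A2 * (H0 * TA)) := Subtype.ext (by decide)
theorem v1 : W0 * N0 ^ 1 = N0 ^ 2 * (A3 * H0) := Subtype.ext (by decide)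
theorem v2 : W0 * N0 ^ 2 = N0 ^ 1 * (A2 * (H0 * H0)) := Subtype.ext (by decide)
theorem v3 : W0 * N0 ^ 3 = N0 ^ 6 * (A2 * (H0 * (H0 * TA))) := Subtype.ext (by decide)
theorem v4 : W0 * N0 ^ 4 = N0 ^ 4 * A1 := Subtype.ext (by decide)
theorem v5 : W0 * N0 ^ 5 = N0 ^ 5 * (A1 * (H0 * (H0 * TA))) := Subtype.ext (by decide)
theorem v6 : W0 * N0 ^ 6 = N0 ^ 3 * (H0 * (H0 * TA)) := Subtype.ext (by decide)
theorem G0_eq : G0 = R0 * (H0 * H0) := Subtype.ext (by decide)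
theorem cj0 : (N0 * (W0 * (N0 * (G0 * N0)))) * R0 = (W0 * R0) * (N0 * (W0 * (N0 * (G0 * N0)))) := Subtype.ext (by decide)
theorem cj2 : (G0 * (W0 * (N0 * (G0 * (W0 * N0))))) * R0 = (W0 * (N0 ^ 2 * R0)) ^ 3 * (G0 * (W0 * (N0 * (G0 * (W0 * N0))))) := Subtype.ext (by decide)
theorem cj5 : (G0 * (N0 * (W0 * (G0 * N0)))) * R0 = (W0 * (N0 ^ 5 * R0)) ^ 3 * (G0 * (N0 * (W0 * (G0 * N0)))) := Subtype.ext (by decide)

end Cfsg.Agent.H296.L7
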